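import Groth.Agent.H7Weight.Chart
import Groth.Agent.H9Gal.QfhBasics

/-! Étale surjections onto finite schemes over a base acquire sections étale locally on the base. -/

set_option autoImplicit false
set_option backward.isDefEq.respectTransparency false
set_option linter.style.haveILetI false
universe u

open AlgebraicGeometry CategoryTheory Limits

namespace Groth.Agent.H18FinEt

open H7Weight

theorem pt_eq {Ω : Type u} [Field Ω] {U : Scheme.{u}} (t : Spec (CommRingCat.of Ω) ⟶ U)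
    (z : Spec (CommRingCat.of Ω)) : t z = pt t :=
  congrArg t (Subsingleton.elim _ _)

/-- An étale surjection onto a finite scheme over `S` has sections étale locally on `S`. -/
theorem exists_etale_section_of_finite {W P S : Scheme.{u}} (π : P ⟶ S) [IsFinite π] (h : W ⟶ P) [Etale h]
    [Surjective h] (s : S) :
    ∃ (U : Scheme.{u}) (g : U ⟶ S), Etale g ∧ s ∈ Set.range g ∧
      ∃ σ : pullback g π ⟶ W, σ ≫ h = pullback.snd g π := by
  classical
  obtain ⟨η, hη⟩ := exists_geomPt s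
  let Ω := AlgebraicClosure (S.residueField s)
  haveI : Finite (Pts π η) := finite_pts π η (π.finite_preimage_singleton _)
  -- lifts of all geometric points of the fibre
  have hb : ∀ a : Pts π η, ∃ b : Pts (h ≫ π) η, b.1 ≫ h = a.1 := fun a => by
    obtain ⟨w, hw⟩ := h.surjective (pt a.1)
    obtain ⟨t, -⟩ := exists_pts h a.1 w hw
    exact ⟨⟨t.1, by rw [← Category.assoc, t.2, a.2]⟩, t.2⟩
  choose b hb using hb
  haveI : Fintype (Pts π η) := Fintype.ofFinite _
  obtain ⟨U, g, hg, η', hη', hD⟩ := exists_singles (h ≫ π) η (Finset.univ.image b)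
  have hD' : ∀ a : Pts π η, Nonempty (Single g η' (b a)) :=
    fun a => hD _ (Finset.mem_image_of_mem _ (Finset.mem_univ a))
  let D : ∀ a : Pts π η, Single g η' (b a) := fun a => (hD' a).some
  -- the finite étale map from the pieces
  let qa : ∀ a, (D a).C.U ⟶ pullback π g := fun a =>
    pullback.lift ((D a).C.a ≫ h) (D a).C.π (by rw [Category.assoc]; exact (D a).C.w)
  let C : Scheme.{u} := ∐ fun a => (D a).C.U
  let q : C ⟶ pullback π g := Sigma.desc qa
  haveI : ∀ a, IsFinite (qa a) := fun a => by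
    haveI : IsFinite (qa a ≫ pullback.snd π g) := by rw [pullback.lift_snd]; infer_instance
    exact IsFinite.of_comp (qa a) (pullback.snd π g)
  haveI : ∀ a, Etale (qa a) := fun a => by
    haveI : Etale (qa a ≫ pullback.fst π g) := by rw [pullback.lift_fst]; infer_instance
    exact Etale.of_comp (qa a) (pullback.fst π g)
  haveI : IsFinite q := H9Gal.QfhBasics.isFinite_sigmaDesc _ _ _ inferInstance
  haveI : Etale q := IsZariskiLocalAtSource.sigmaDesc inferInstance
  let r : C ⟶ W := Sigma.desc fun a => (D a).C.a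
  have hr : r ≫ h = q ≫ pullback.fst π g := Sigma.hom_ext _ _ fun a => by simp [r, q, qa]
  -- geometric points of the pieces over `η'`
  have hinj : ∀ t₁ t₂ : Spec (CommRingCat.of Ω) ⟶ C, t₁ ≫ q ≫ pullback.snd π g = η' → t₁ ≫ q = t₂ ≫ q → t₁ = t₂ := by
    suffices ∀ t : Spec (CommRingCat.of Ω) ⟶ C, t ≫ q ≫ pullback.snd π g = η' →
        ∃ a : Pts π η, t = (D a).p.1 ≫ Sigma.ι (fun a => (D a).C.U) a ∧ t ≫ q ≫ pullback.fst π g = a.1 by
      intro t₁ t₂ h₁ h₁₂
      obtain ⟨a₁, e₁, f₁⟩ := this t₁ h₁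
      obtain ⟨a₂, e₂, f₂⟩ := this t₂ (by rw [← reassoc_of% h₁₂]; exact h₁)
      obtain rfl : a₁ = a₂ := Subtype.ext (f₁.symm.trans ((show t₁ ≫ q ≫ pullback.fst π g = t₂ ≫ q ≫ pullback.fst π g by rw [reassoc_of% h₁₂]).trans f₂))
      rw [e₁, e₂]
    intro t ht
    obtain ⟨(a : Pts π η), y, hy⟩ := (sigmaOpenCover fun a => (D a).C.U).exists_eq (pt t)
    let ι := Sigma.ι (fun a => (D a).C.U) a
    have hr : Set.range t ⊆ Set.range ι := by
      rintro _ ⟨z, rfl⟩
      exact ⟨y, hy.trans (pt_eq t z).symm⟩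
    let t' := IsOpenImmersion.lift ι t hr
    have ht' : t' ≫ ι = t := IsOpenImmersion.lift_fac _ _ _
    have ht'' : t' ≫ (D a).C.π = η' := by
      refine Eq.trans ?_ ht
      rw [← ht', Category.assoc, show ι ≫ q ≫ pullback.snd π g = qa a ≫ pullback.snd π g by simp [ι, q],
        pullback.lift_snd]
    have he : t' = (D a).p.1 := congrArg Subtype.val ((D a).unique ⟨t', ht''⟩)
    refine ⟨a, by rw [← ht', he], ?_⟩
    rw [← ht', he, Category.assoc, show ι ≫ q ≫ pullback.fst π g = qa a ≫ pullback.fst π g by simp [ι, q],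
      pullback.lift_fst, ← Category.assoc, (D a).p_a, hb]
  -- the bad locus
  let dgl := pullback.diagonal q
  haveI : IsOpenImmersion dgl := inferInstance
  let πC := pullback.fst q q ≫ q ≫ pullback.snd π g
  let B₁ : Set U := πC '' (Set.range dgl)ᶜ
  let B₂ : Set U := pullback.snd π g '' (Set.range q)ᶜ
  have hB : IsClosed (B₁ ∪ B₂) :=
    (πC.isClosedMap _ dgl.isOpenEmbedding.isOpen_range.isClosed_compl).union
      ((pullback.snd π g).isClosedMap _ q.isOpenMap.isOpen_range.isClosed_compl)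
  have hu : pt η' ∉ B₁ ∪ B₂ := by
    rintro (⟨z, hz, hzu⟩ | ⟨z, hz, hzu⟩)
    · obtain ⟨⟨t, ht⟩, rfl⟩ := exists_pts πC η' z hzu
      have e : t ≫ pullback.fst q q = t ≫ pullback.snd q q :=
        hinj _ _ (by rw [Category.assoc]; exact ht) (by rw [Category.assoc, Category.assoc, pullback.condition])
      refine hz ⟨pt (t ≫ pullback.fst q q), ?_⟩
      show pt ((t ≫ pullback.fst q q) ≫ dgl) = pt t
      congr 1
      apply pullback.hom_ext
      · simp [dgl]
      · simp [dgl, e]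
    · obtain ⟨⟨t, ht⟩, rfl⟩ := exists_pts (pullback.snd π g) η' z hzu
      let a : Pts π η := ⟨t ≫ pullback.fst π g, by rw [Category.assoc, pullback.condition, ← Category.assoc, ht, hη']⟩
      refine hz ⟨pt ((D a).p.1 ≫ Sigma.ι (fun a => (D a).C.U) a), ?_⟩
      show pt (((D a).p.1 ≫ Sigma.ι (fun a => (D a).C.U) a) ≫ q) = pt t
      congr 1
      rw [Category.assoc, Sigma.ι_desc]
      apply pullback.hom_ext
      · rw [Category.assoc, pullback.lift_fst, ← Category.assoc, (D a).p_a, hb]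
      · rw [Category.assoc, pullback.lift_snd, (D a).p.2, ht]
  let O : U.Opens := ⟨(B₁ ∪ B₂)ᶜ, hB.isOpen_compl⟩
  let Q : (pullback π g).Opens := pullback.snd π g ⁻¹ᵁ O
  haveI : Mono (q ∣_ Q) := ⟨fun {T} t₁ t₂ e => by
    have e' : (t₁ ≫ (q ⁻¹ᵁ Q).ι) ≫ q = (t₂ ≫ (q ⁻¹ᵁ Q).ι) ≫ q := by
      simpa [morphismRestrict_ι] using congrArg (· ≫ Q.ι) e
    let l := pullback.lift (t₁ ≫ (q ⁻¹ᵁ Q).ι) (t₂ ≫ (q ⁻¹ᵁ Q).ι) e'
    have hl : Set.range l ⊆ Set.range dgl := by
      rintro _ ⟨z, rfl⟩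
      by_contra hn
      have hm : πC (l z) ∈ O := by
        rw [← Scheme.Hom.comp_apply, pullback.lift_fst_assoc]
        exact (t₁ z).2
      exact hm (Or.inl ⟨l z, hn, rfl⟩)
    have hl' : IsOpenImmersion.lift dgl l hl ≫ dgl = l := IsOpenImmersion.lift_fac _ _ _
    rw [← cancel_mono (q ⁻¹ᵁ Q).ι]
    have h₁ := congrArg (· ≫ pullback.fst q q) hl'
    have h₂ := congrArg (· ≫ pullback.snd q q) hl'
    simp only [Category.assoc, dgl, pullback.diagonal_fst, pullback.diagonal_snd, Category.comp_id, l,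
      pullback.lift_fst, pullback.lift_snd] at h₁ h₂
    exact h₁.symm.trans h₂⟩
  haveI : IsOpenImmersion (q ∣_ Q) := IsOpenImmersion.of_flat_of_mono _
  haveI : IsIso (q ∣_ Q) := by
    apply isIso_of_isOpenImmersion_of_opensRange_eq_top
    refine eq_top_iff.2 fun z _ => ?_
    have hz : z.1 ∈ Set.range q := by
      by_contra hn
      exact z.2 (Or.inr ⟨z.1, hn, rfl⟩)
    obtain ⟨y, hy⟩ := hz
    let y' : ↥(q ⁻¹ᵁ Q) := ⟨y, show q y ∈ Q by rw [hy]; exact z.2⟩
    refine ⟨y', Subtype.ext ?_⟩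
    exact (congr($(morphismRestrict_ι q Q) y')).trans hy
  -- the section
  refine ⟨O.toScheme, O.ι ≫ g, inferInstance, ⟨⟨pt η', hu⟩, ?_⟩, ?_⟩
  · show g (pt η') = s
    rw [← pt_comp, hη', hη]
  let m : pullback (O.ι ≫ g) π ⟶ pullback π g :=
    pullback.lift (pullback.snd _ _) (pullback.fst _ _ ≫ O.ι)
      (by rw [Category.assoc, ← pullback.condition])
  have hm : Set.range m ⊆ Set.range Q.ι := by
    rintro _ ⟨z, rfl⟩
    rw [Scheme.Opens.range_ι]
    show pullback.snd π g (m z) ∈ O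
    rw [← Scheme.Hom.comp_apply, pullback.lift_snd]
    exact (pullback.fst (O.ι ≫ g) π z).2
  refine ⟨IsOpenImmersion.lift Q.ι m hm ≫ inv (q ∣_ Q) ≫ (q ⁻¹ᵁ Q).ι ≫ r, ?_⟩
  have e : inv (q ∣_ Q) ≫ (q ⁻¹ᵁ Q).ι ≫ q = Q.ι := by rw [IsIso.inv_comp_eq, morphismRestrict_ι]
  simp only [Category.assoc, hr]
  rw [reassoc_of% e, IsOpenImmersion.lift_fac_assoc, pullback.lift_fst]

end Groth.Agent.H18FinEt
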