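import Groth.Agent.H18FinEt.Section
import Groth.Agent.H18Torsor.Basic
import Groth.Agent.H13AlgSp.SmoothSection
import Groth.Agent.H13Desc.Eff.Lqf

/-! Torsors under smooth groups over a finite cover trivialise locally on the base. -/

set_option autoImplicit false
set_option backward.isDefEq.respectTransparency false
set_option linter.style.haveILetI false
universe u

open CategoryTheory MonoidalCategory CartesianMonoidalCategory AlgebraicGeometry Limits

namespace Groth.Agent.H18FinEt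

theorem smooth_surjective_of_isTorsorFor {S : Scheme.{u}} {G X : Over S} [GrpObj G] [Smooth G.hom]
    {a : AlgGrp.Action G X} (h : NonAbH1.IsTorsorFor Scheme.fppfPrecoverage a) :
    Smooth X.hom ∧ Surjective X.hom := by
  have h' : NonAbH1.IsTorsorFor Scheme.fpqcPrecoverage a :=
    ⟨h.1, h.2.choose, Scheme.fppfPrecoverage_le_fpqcPrecoverage _ h.2.choose_spec.1, h.2.choose_spec.2⟩
  refine ⟨H18Torsor.property_of_isTorsorFor a @Smooth h' inferInstance, ⟨fun x => ?_⟩⟩
  obtain ⟨-, R, hR, hsec⟩ := h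
  obtain ⟨𝒰, -, hR'⟩ := Scheme.mem_propQCPrecoverage_iff_exists_quasiCompactCover.mp
    (Scheme.fppfPrecoverage_le_fpqcPrecoverage _ hR)
  subst hR'
  obtain ⟨i, y, hy⟩ := 𝒰.exists_eq x
  obtain ⟨t, ht⟩ := hsec (𝒰.f i) (Presieve.ofArrows.mk i)
  exact ⟨t y, by rw [← Scheme.Hom.comp_apply, ht, hy]⟩

theorem exists_fppf_sections {S S' : Scheme.{u}} (π : S' ⟶ S) [IsFinite π] (X : Over S') [Smooth X.hom]
    [Surjective X.hom] :
    ∃ R ∈ Scheme.fppfPrecoverage S, ∀ ⦃U : Scheme.{u}⦄ (g : U ⟶ S), R g →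
      NonAbH1.HasSectionOver X (pullback.snd g π) := by
  have hloc : ∀ x : S', ∃ (W : Scheme.{u}) (e : W ⟶ S') (r : W ⟶ X.left), Etale e ∧ r ≫ X.hom = e ∧
      x ∈ Set.range e := fun x => by
    obtain ⟨w, rfl⟩ := X.hom.surjective x
    exact H13AlgSp.SmoothSection.exists_etale_section X.hom w
  choose W e r he hr hx using hloc
  let h : ∐ W ⟶ S' := Sigma.desc e
  haveI : Etale h := IsZariskiLocalAtSource.sigmaDesc he
  haveI : Surjective h := ⟨fun x => by
    obtain ⟨w, hw⟩ := hx x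
    exact ⟨Sigma.ι W x w, by rw [← Scheme.Hom.comp_apply, Sigma.ι_desc, hw]⟩⟩
  choose U g hg hs σ hσ using fun s : S => exists_etale_section_of_finite π h s
  refine ⟨Presieve.ofArrows U g, ?_, ?_⟩
  · refine (Scheme.ofArrows_mem_precoverage_iff _).2 ⟨fun s => ⟨s, hs s⟩, fun s => ?_⟩
    haveI := hg s
    exact ⟨inferInstance, inferInstance⟩
  · rintro V f ⟨s⟩
    refine ⟨σ s ≫ Sigma.desc r, ?_⟩
    rw [Category.assoc, show Sigma.desc r ≫ X.hom = h from Sigma.hom_ext _ _ fun x => by simp [h, hr], hσ]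

end Groth.Agent.H18FinEt
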